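import Groth.Agent.Lib.QuadGrp99.Cliff.Odd.Local

/-!
# Functoriality of the Clifford algebras of the base changes
-/

open CliffordAlgebra TensorProduct

universe u

namespace Groth.Agent.Lib.QuadGrp99.Cliff.Group

open Groth.Agent.Lib.QuadGrp99.Cliff

variable {R : Type u} [CommRing R] {M : Type u} [AddCommGroup M] [Module R M] [Module.Free R M]
  [Module.Finite R M] (Q : QuadraticForm R M)
  (A : Type u) [CommRing A] [Algebra R A] {B : Type u} [CommRing B] [Algebra R B]

/-- The Clifford algebra of the base change. -/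
abbrev CC : Type u := CliffordAlgebra (QA A Q)

/-- The index of the chosen basis. -/
abbrev Idx : Type u := Module.Free.ChooseBasisIndex R (CliffordAlgebra Q)

/-- `ofTensor` as an algebra map. -/
noncomputable def ofTensorAlg : A ⊗[R] CliffordAlgebra Q →ₐ[A] CC Q A :=
  Algebra.TensorProduct.lift (Algebra.ofId A (CC Q A)) (toBC A Q) fun a x => Algebra.commutes a _

theorem ofTensorAlg_tmul (a : A) (x : CliffordAlgebra Q) : ofTensorAlg Q A (a ⊗ₜ[R] x) = a • toBC A Q x := by
  rw [ofTensorAlg, Algebra.TensorProduct.lift_tmul, Algebra.ofId_apply, Algebra.smul_def]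

variable {Q A}

theorem induction_BC {p : CC Q A → Prop} (zero : p 0) (add : ∀ x y, p x → p y → p (x + y))
    (smul : ∀ (a : A) (x : CliffordAlgebra Q), p (a • toBC A Q x)) (y : CC Q A) : p y := by
  obtain ⟨c, rfl⟩ := Finsupp.mem_span_range_iff_exists_finsupp.1 (mem_span_range A Q y)
  exact Finset.sum_induction _ p add zero fun x _ => smul _ _

variable (Q A)

/-- The Clifford algebra of the base change is the base change of the Clifford algebra. -/
noncomputable def tEquiv : CC Q A ≃ₗ[A] A ⊗[R] CliffordAlgebra Q :=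
  LinearEquiv.ofLinearMap (toTensor A Q).toLinearMap (ofTensorAlg Q A).toLinearMap
    (LinearMap.ext fun t => by
      induction t using TensorProduct.induction_on with
      | zero => simp
      | add a b ha hb => simp only [map_add, ha, hb]
      | tmul a x => simp [ofTensorAlg_tmul, toTensor_toBC, TensorProduct.smul_tmul'])
    (LinearMap.ext fun y => by
      induction y using induction_BC with
      | zero => simp
      | add a b ha hb => simp only [map_add, ha, hb]
      | smul a x => simp [toTensor_toBC, ofTensorAlg_tmul])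

/-- The basis of the Clifford algebra of the base change. -/
noncomputable def bC : Module.Basis (Idx Q) A (CC Q A) :=
  ((Module.Free.chooseBasis R (CliffordAlgebra Q)).baseChange A).map (tEquiv Q A).symm

theorem bC_apply (i : Idx Q) : bC Q A i = toBC A Q (Module.Free.chooseBasis R (CliffordAlgebra Q) i) := by
  rw [bC, Module.Basis.map_apply, Module.Basis.baseChange_apply]
  show ofTensorAlg Q A _ = _
  rw [ofTensorAlg_tmul, one_smul]

theorem repr_smul_toBC (a : A) (x : CliffordAlgebra Q) (i : Idx Q) :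
    (bC Q A).repr (a • toBC A Q x) i =
      (Module.Free.chooseBasis R (CliffordAlgebra Q)).repr x i • a := by
  show ((Module.Free.chooseBasis R (CliffordAlgebra Q)).baseChange A).repr (toTensor A Q (a • toBC A Q x)) i = _
  rw [map_smul, toTensor_toBC, TensorProduct.smul_tmul', smul_eq_mul, mul_one, Module.Basis.baseChange_repr_tmul]

variable {A}

/-- The map of Clifford algebras over a map of base rings. -/
noncomputable def F (φ : A →ₐ[R] B) : CC Q A →+* CC Q B :=
  (ofTensorAlg Q B).toRingHom.comp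
    ((Algebra.TensorProduct.map φ (AlgHom.id R (CliffordAlgebra Q))).toRingHom.comp (toTensor A Q).toRingHom)

variable {Q} (φ : A →ₐ[R] B)

theorem F_smul_toBC (a : A) (x : CliffordAlgebra Q) : F Q φ (a • toBC A Q x) = φ a • toBC B Q x := by
  show ofTensorAlg Q B (Algebra.TensorProduct.map φ (AlgHom.id R _) (toTensor A Q (a • toBC A Q x))) = _
  rw [map_smul, toTensor_toBC, TensorProduct.smul_tmul', smul_eq_mul, mul_one, Algebra.TensorProduct.map_tmul,
    ofTensorAlg_tmul, AlgHom.id_apply]

@[simp]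
theorem F_toBC (x : CliffordAlgebra Q) : F Q φ (toBC A Q x) = toBC B Q x := by
  simpa using F_smul_toBC φ 1 x

theorem F_algebraMap (a : A) : F Q φ (algebraMap A _ a) = algebraMap B _ (φ a) := by
  have := F_smul_toBC φ a (1 : CliffordAlgebra Q)
  rwa [map_one, map_one, ← Algebra.algebraMap_eq_smul_one, ← Algebra.algebraMap_eq_smul_one] at this

theorem F_smul (a : A) (y : CC Q A) : F Q φ (a • y) = φ a • F Q φ y := by
  rw [Algebra.smul_def, map_mul, F_algebraMap, ← Algebra.smul_def]

theorem F_ι (v : A ⊗[R] M) :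
    F Q φ (ι (QA A Q) v) = ι (QA B Q) (LinearMap.rTensor M φ.toLinearMap v) := by
  induction v using TensorProduct.induction_on with
  | zero => simp
  | add p q hp hq => simp only [map_add, hp, hq]
  | tmul a m => rw [ι_tmul, F_smul_toBC, LinearMap.rTensor_tmul, AlgHom.toLinearMap_apply, ι_tmul]

theorem F_bC (i : Idx Q) : F Q φ (bC Q A i) = bC Q B i := by rw [bC_apply, F_toBC, bC_apply]

theorem repr_F (y : CC Q A) (i : Idx Q) : (bC Q B).repr (F Q φ y) i = φ ((bC Q A).repr y i) := by
  induction y using induction_BC with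
  | zero => simp
  | add a b ha hb => simp only [map_add, Finsupp.add_apply, ha, hb]
  | smul a x => rw [F_smul_toBC, repr_smul_toBC, repr_smul_toBC, map_smul]

theorem F_eq_zero_iff (y : CC Q A) : F Q φ y = 0 ↔ ∀ i, φ ((bC Q A).repr y i) = 0 := by
  simp only [← repr_F]
  exact ⟨fun h i => by rw [h]; simp, fun h => (bC Q B).forall_coord_eq_zero_iff.1 h⟩

theorem F_comp {C : Type u} [CommRing C] [Algebra R C] (ψ : B →ₐ[R] C) (y : CC Q A) :
    F Q (ψ.comp φ) y = F Q ψ (F Q φ y) :=
  (bC Q C).ext_elem fun i => by rw [repr_F, repr_F, repr_F, AlgHom.comp_apply]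

theorem F_surjective (hφ : Function.Surjective φ) : Function.Surjective (F Q φ) := fun z => by
  classical
  choose c hc using fun i => hφ ((bC Q B).repr z i)
  refine ⟨∑ i, c i • bC Q A i, ?_⟩
  simp only [map_sum, F_smul, hc, F_bC, (bC Q B).sum_repr]

theorem kernel_mul (h : ∀ a b, φ a = 0 → φ b = 0 → a * b = 0) (y z : CC Q A) (hy : F Q φ y = 0)
    (hz : F Q φ z = 0) : y * z = 0 := by
  rw [← (bC Q A).sum_repr y, ← (bC Q A).sum_repr z, Finset.sum_mul]
  refine Finset.sum_eq_zero fun i _ => ?_
  rw [Finset.mul_sum]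
  refine Finset.sum_eq_zero fun j _ => ?_
  rw [smul_mul_smul_comm, h _ _ ((F_eq_zero_iff φ y).1 hy i) ((F_eq_zero_iff φ z).1 hz j), zero_smul]

theorem isUnit_of_F (hφ : Function.Surjective φ) (h : ∀ a b, φ a = 0 → φ b = 0 → a * b = 0) (y : CC Q A)
    (hy : IsUnit (F Q φ y)) : IsUnit y := by
  obtain ⟨v, hv⟩ := hy
  obtain ⟨w, hw⟩ := F_surjective φ hφ (↑v⁻¹ : CC Q B)
  have key : ∀ k, F Q φ k = 1 → IsUnit k := fun k hk => by
    have h0 : (k - 1) * (k - 1) = 0 :=
      kernel_mul φ h _ _ (by rw [map_sub, map_one, hk, sub_self]) (by rw [map_sub, map_one, hk, sub_self])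
    refine ⟨⟨k, 1 - (k - 1), ?_, ?_⟩, rfl⟩
    · calc k * (1 - (k - 1)) = (1 + (k - 1)) * (1 - (k - 1)) := by rw [add_sub_cancel]
        _ = 1 := by rw [add_mul, one_mul, mul_sub, mul_one, h0]; abel
    · calc (1 - (k - 1)) * k = (1 - (k - 1)) * (1 + (k - 1)) := by rw [add_sub_cancel]
        _ = 1 := by rw [mul_add, mul_one, sub_mul, one_mul, h0]; abel
  obtain ⟨a, ha⟩ := key (y * w) (by rw [map_mul, ← hv, hw, v.mul_inv])
  obtain ⟨b, hb⟩ := key (w * y) (by rw [map_mul, ← hv, hw, v.inv_mul])
  exact isUnit_iff_exists_and_exists.2 ⟨⟨w * (↑a⁻¹ : CC Q A), by rw [← mul_assoc, ← ha, a.mul_inv]⟩,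
    ⟨(↑b⁻¹ : CC Q A) * w, by rw [mul_assoc, ← hb, b.inv_mul]⟩⟩

theorem F_P0 (y : CC Q A) : F Q φ (P0 (QA A Q) y) = P0 (QA B Q) (F Q φ y) := by
  induction y using induction_BC with
  | zero => simp
  | add a b ha hb => simp only [map_add, ha, hb]
  | smul a x => rw [map_smul, ← toBC_P0, F_smul_toBC, F_smul_toBC, map_smul, toBC_P0]

theorem F_star (y : CC Q A) : F Q φ (star y) = star (F Q φ y) := by
  induction y using induction_BC with
  | zero => simp
  | add a b ha hb => simp only [star_add, map_add, ha, hb]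
  | smul a x =>
    rw [CliffordAlgebra.star_smul, ← Odd.toBC_star, F_smul_toBC, F_smul_toBC, CliffordAlgebra.star_smul,
      Odd.toBC_star]

variable (Q A)

/-- A left inverse of the inclusion of the vectors. -/
noncomputable def rho : CC Q A →ₗ[A] A ⊗[R] M :=
  ((ExteriorAlgebra.ιInv (R := R) (M := M)).comp (toExt Q).toLinearMap).baseChange A ∘ₗ (toTensor A Q).toLinearMap

/-- The projection along the vectors. -/
noncomputable def Pr : CC Q A →ₗ[A] CC Q A := LinearMap.id - (ι (QA A Q)).comp (rho Q A)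

/-- The scalar coefficient. -/
noncomputable def phiA : CC Q A →ₗ[A] A :=
  (AlgebraTensorModule.rid R A A).toLinearMap ∘ₗ (Odd.phi Q).baseChange A ∘ₗ (toTensor A Q).toLinearMap

variable {Q A}

theorem rho_smul_toBC (a : A) (x : CliffordAlgebra Q) :
    rho Q A (a • toBC A Q x) = a ⊗ₜ[R] ExteriorAlgebra.ιInv (toExt Q x) := by
  simp [rho, toTensor_toBC, TensorProduct.smul_tmul']

theorem rho_ι (v : A ⊗[R] M) : rho Q A (ι (QA A Q) v) = v := by
  induction v using TensorProduct.induction_on with
  | zero => simp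
  | add p q hp hq => simp only [map_add, hp, hq]
  | tmul a m =>
    rw [ι_tmul, rho_smul_toBC]
    congr 1
    simp only [toExt, changeFormEquiv_apply, changeForm_ι]
    exact ExteriorAlgebra.ι_leftInverse (R := R) (M := M) m

theorem Pr_eq_zero_iff (y : CC Q A) : Pr Q A y = 0 ↔ y ∈ LinearMap.range (ι (QA A Q)) := by
  refine ⟨fun h => ⟨rho Q A y, ?_⟩, ?_⟩
  · simp only [Pr, LinearMap.sub_apply, LinearMap.id_apply, LinearMap.comp_apply, sub_eq_zero] at h
    exact h.symm
  · rintro ⟨v, rfl⟩
    simp [Pr, rho_ι]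

theorem F_Pr (y : CC Q A) : F Q φ (Pr Q A y) = Pr Q B (F Q φ y) := by
  induction y using induction_BC with
  | zero => simp
  | add a b ha hb => simp only [map_add, ha, hb]
  | smul a x =>
    simp only [Pr, LinearMap.sub_apply, LinearMap.id_apply, LinearMap.comp_apply, map_sub, F_smul_toBC, F_ι,
      rho_smul_toBC, LinearMap.rTensor_tmul, AlgHom.toLinearMap_apply]

theorem phiA_smul_toBC (a : A) (x : CliffordAlgebra Q) : phiA Q A (a • toBC A Q x) = Odd.phi Q x • a := by
  simp [phiA, toTensor_toBC, TensorProduct.smul_tmul']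

theorem phiA_algebraMap (a : A) : phiA Q A (algebraMap A _ a) = a := by
  rw [Algebra.algebraMap_eq_smul_one, ← map_one (toBC A Q), phiA_smul_toBC, Odd.phi_one, one_smul]

theorem phiA_F (y : CC Q A) : phiA Q B (F Q φ y) = φ (phiA Q A y) := by
  induction y using induction_BC with
  | zero => simp
  | add a b ha hb => simp only [map_add, ha, hb]
  | smul a x => rw [F_smul_toBC, phiA_smul_toBC, phiA_smul_toBC, map_smul]

theorem mem_even_iff {S V : Type*} [CommRing S] [AddCommGroup V] [Module S V] {q : QuadraticForm S V}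
    (y : CliffordAlgebra q) : y ∈ evenOdd q 0 ↔ P0 q y = y :=
  ⟨P0_even q, fun h => h ▸ P0_mem q y⟩

theorem mem_odd_iff {S V : Type*} [CommRing S] [AddCommGroup V] [Module S V] {q : QuadraticForm S V}
    (y : CliffordAlgebra q) : y ∈ evenOdd q 1 ↔ P0 q y = 0 :=
  ⟨P0_odd q, fun h => by simpa [h] using sub_P0_mem q y⟩

end Groth.Agent.Lib.QuadGrp99.Cliff.Group
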