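import Groth.Agent.Lib.QuadGrp99.Cliff.Group.Lift

/-!
# Smoothness of the Clifford and Pin group schemes
-/

noncomputable section

open CliffordAlgebra TensorProduct CategoryTheory AlgebraicGeometry
open scoped Matrix

universe u

namespace Groth.Agent.Lib.QuadGrp99.Cliff.Group

open Groth.Agent.Lib.QuadGrp99 Groth.Agent.Lib.QuadGrp99.Cliff

variable {R : Type u} [CommRing R]

section Common

variable {n : ℕ} {Q : QuadraticForm R (Fin n → R)}
  (hQn : QuadGrp.IsNondeg (Pi.basisFun R (Fin n)) (LinearEquiv.refl R R) Q)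

include hQn in
theorem exists_g (A : Type u) [CommRing A] [Algebra R A] (H : Matrix (Fin n) (Fin n) A)
    (hH : Rep.IsSol (OrthSmooth.eqO Q) H) :
    ∃ g : (A ⊗[R] (Fin n → R)) ≃ₗ[A] (A ⊗[R] (Fin n → R)), g ∈ QuadGrp.O (QA A Q) ∧ Rep.mat g = H := by
  obtain ⟨e, he⟩ := Rep.exists_matEquiv (OrthSmooth.eqO Q) (fun A _ _ => QuadGrp.orth Q A)
    (OrthSmooth.mem_orth_iff Q) (OrthSmooth.isUnit_det_sol Q hQn) A
  exact ⟨(e.symm ⟨H, hH⟩).1, (mem_O_QA_iff Q _).2 (e.symm ⟨H, hH⟩).2, by rw [← he, Equiv.apply_symm_apply]⟩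

theorem finrank_bA (A : Type u) [CommRing A] [Algebra R A] [Nontrivial A] :
    Module.finrank A (A ⊗[R] (Fin n → R)) = n := by
  rw [Module.finrank_eq_card_basis (Rep.bA R n A), Fintype.card_fin]

end Common

section Even

variable (m : ℕ) {Q : QuadraticForm R (Fin (2 * m) → R)} (hQ : QuadGrp.IsRegular Q)

include hQ in
theorem nondeg_even : QuadGrp.IsNondeg (Pi.basisFun R (Fin (2 * m))) (LinearEquiv.refl R R) Q :=
  ⟨fun _ => hQ, fun h => absurd h (Nat.not_odd_iff_even.2 (even_two_mul m))⟩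

include hQ in
theorem locConj_even : LocConj Q (OrthSmooth.eqO Q) := by
  intro A _ _ _ H hH
  obtain ⟨g, hg, hgH⟩ := exists_g (nondeg_even m hQ) A H hH
  obtain ⟨p, u, -, hu, -, -, -⟩ := exists_lift_local (R := A) (M := A ⊗[R] (Fin (2 * m) → R))
    (regular_QA A Q hQ) m (finrank_bA A) g hg
  exact ⟨u, fun j => by rw [← hgH, Gv_mat, X_eq]; exact (Units.mul_inv_eq_iff_eq_mul u).1 (hu _)⟩

include hQ in
theorem centerLift_even : CenterLift Q := by
  intro A A' _ _ _ _ _ p hp x hx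
  obtain ⟨a, ha⟩ : ∃ a : A', algebraMap A' (CC Q A') a = x := by
    rcases subsingleton_or_nontrivial A' with h | h
    · haveI := Module.subsingleton A' (CC Q A')
      exact ⟨0, Subsingleton.elim _ _⟩
    · exact center_eq_scalar (regular_QA A' Q hQ) m (finrank_bA A') x (commute_ι Q hx)
  obtain ⟨b, rfl⟩ := hp a
  exact ⟨algebraMap A _ b, fun j => Algebra.commutes _ _, by rw [F_algebraMap, ha]⟩

include hQ in
theorem gpin_smooth_even (G : Over (Spec (CommRingCat.of R))) [GrpObj G] (D : QuadGrp.GPinRep Q G) :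
    Smooth G.hom ∧ IsAffineHom G.hom := by
  haveI := OrthSmooth.formallySmooth_O Q (nondeg_even m hQ) (Or.inl (even_two_mul m))
  refine smooth_of_lift (eqG Q) (fun A _ _ => QuadGrp.gpin Q A) (eqG_natural Q) (mem_gpin_iff Q) D
    fun B _ _ I hI u hu => lift_gpin (locConj_even m hQ) (centerLift_even m hQ)
      (fun A _ _ g hg _ _ => (OrthSmooth.mem_orth_iff Q A g).1 ((mem_O_QA_iff Q g).1 hg))
      (fun A _ _ H hH => ?_) I hI u hu
  obtain ⟨g, -, hgH⟩ := exists_g (nondeg_even m hQ) A H hH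
  exact ⟨g, hgH⟩

end Even

section Odd

variable (m : ℕ) {Q : QuadraticForm R (Fin (2 * m + 1) → R)}
  (hQ : QuadGrp.IsSemiregular (Pi.basisFun R (Fin (2 * m + 1))) (LinearEquiv.refl R R) Q)

include hQ in
theorem nondeg_odd : QuadGrp.IsNondeg (Pi.basisFun R (Fin (2 * m + 1))) (LinearEquiv.refl R R) Q :=
  ⟨fun h => absurd h (Nat.not_even_iff_odd.2 (odd_two_mul_add_one m)), fun _ => hQ⟩

include hQ in
theorem semiregular_bA (A : Type u) [CommRing A] [Algebra R A] :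
    QuadGrp.IsSemiregular (Rep.bA R (2 * m + 1) A) (LinearEquiv.refl A A) (QA A Q) :=
  Odd.semiregular_QA (Pi.basisFun R (Fin (2 * m + 1))) hQ A

include hQ in
theorem locConj_odd : LocConj Q (OrthSmooth.eqSO Q) := by
  intro A _ _ _ H hH
  rw [OrthSmooth.isSol_eqSO] at hH
  obtain ⟨g, hg, hgH⟩ := exists_g (nondeg_odd m hQ) A H hH.1
  obtain ⟨u, -, hu⟩ := Odd.exists_lift_SO (R := A) (M := A ⊗[R] (Fin (2 * m + 1) → R)) (Rep.bA R (2 * m + 1) A)
    (semiregular_bA m hQ A) g hg (by rw [← hH.2, ← hgH, LinearMap.det_toMatrix])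
  exact ⟨u, fun j => by rw [← hgH, Gv_mat, X_eq]; exact (Units.mul_inv_eq_iff_eq_mul u).1 (hu _)⟩

include hQ in
theorem centerLift_odd : CenterLift Q := by
  intro A A' _ _ _ _ _ p hp x hx
  obtain ⟨z, hz1, hzc, -, ⟨d, hd⟩, -, -⟩ := Odd.exists_zeta (R := A) (M := A ⊗[R] (Fin (2 * m + 1) → R))
    (Rep.bA R (2 * m + 1) A) (semiregular_bA m hQ A)
  obtain ⟨c0, c1⟩ := center_components (QA A' Q) x (commute_ι Q hx)
  obtain ⟨a, ha⟩ := Odd.even_scalar (R := A') (M := A' ⊗[R] (Fin (2 * m + 1) → R))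
    (Rep.bA R (2 * m + 1) A') (semiregular_bA m hQ A') _ (P0_mem _ x) c0
  set z' := F Q p z with hz'
  have hz'1 : z' ∈ evenOdd (QA A' Q) 1 := by rw [mem_odd_iff, hz', ← F_P0, P0_odd _ hz1, map_zero]
  have hz'c : ∀ v, ι (QA A' Q) v * z' = z' * ι (QA A' Q) v := commute_ι Q fun j => by
    rw [hz', ← F_X Q p, ← map_mul, ← map_mul, X_eq, hzc]
  obtain ⟨s, hs⟩ := Odd.even_scalar (R := A') (M := A' ⊗[R] (Fin (2 * m + 1) → R))
    (Rep.bA R (2 * m + 1) A') (semiregular_bA m hQ A') ((x - P0 (QA A' Q) x) * z')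
    (mul_mem_even_odd _ (by decide) (sub_P0_mem _ x) hz'1)
    fun v => by rw [← mul_assoc, c1, mul_assoc, hz'c, ← mul_assoc]
  have hzz : z' * z' = algebraMap A' _ (p (d : A)) := by rw [hz', ← map_mul, hd, F_algebraMap]
  obtain ⟨a', rfl⟩ := hp a
  obtain ⟨s', rfl⟩ := hp s
  refine ⟨algebraMap A _ a' + (s' * ↑d⁻¹) • z, fun j => ?_, ?_⟩
  · rw [X_eq, add_mul, mul_add, smul_mul_assoc, mul_smul_comm, Algebra.commutes a', hzc]
  · have hinv : z' * (algebraMap A' _ (p ↑d⁻¹) * z') = 1 := by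
      rw [Algebra.commutes, ← mul_assoc, hzz, ← map_mul, ← map_mul, Units.mul_inv, map_one, map_one]
    rw [map_add, F_algebraMap, F_smul, ← hz', ha, Algebra.smul_def, map_mul, map_mul, hs, mul_assoc, mul_assoc,
      hinv, mul_one, add_sub_cancel]

include hQ in
theorem lift_gpin_odd {B : Type u} [CommRing B] [Algebra R B] (I : Ideal B) (hI : I ^ 2 = ⊥)
    (u : (CC Q (B ⧸ I))ˣ) (hu : u ∈ QuadGrp.gpin Q (B ⧸ I)) :
    ∃ w : (CC Q B)ˣ, w ∈ QuadGrp.gpin Q B ∧ F Q (Ideal.Quotient.mkₐ R I) (w : CC Q B) = u := by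
  haveI := OrthSmooth.formallySmooth_SO Q (nondeg_odd m hQ) (Or.inl (odd_two_mul_add_one m))
  refine lift_gpin (locConj_odd m hQ) (centerLift_odd m hQ) (fun A _ _ g hg v hv => ?_) (fun A _ _ H hH => ?_) I hI u hu
  · rw [OrthSmooth.isSol_eqSO, LinearMap.det_toMatrix]
    exact ⟨(OrthSmooth.mem_orth_iff Q A g).1 ((mem_O_QA_iff Q g).1 hg),
      Odd.det_conj (R := A) (M := A ⊗[R] (Fin (2 * m + 1) → R)) (Rep.bA R (2 * m + 1) A) (semiregular_bA m hQ A) g hg v hv⟩
  · obtain ⟨g, -, hgH⟩ := exists_g (nondeg_odd m hQ) A H ((OrthSmooth.isSol_eqSO Q H).1 hH).1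
    exact ⟨g, hgH⟩

include hQ in
theorem gpin_smooth_odd (G : Over (Spec (CommRingCat.of R))) [GrpObj G] (D : QuadGrp.GPinRep Q G) :
    Smooth G.hom ∧ IsAffineHom G.hom :=
  smooth_of_lift (eqG Q) (fun A _ _ => QuadGrp.gpin Q A) (eqG_natural Q) (mem_gpin_iff Q) D
    fun _ _ _ I hI u hu => lift_gpin_odd m hQ I hI u hu

include hQ in
theorem polar_span_top (hm : 1 ≤ m) :
    Ideal.span (Set.range fun p : Fin (2 * m + 1) × Fin (2 * m + 1) =>
      QuadraticMap.polar Q (Pi.basisFun R _ p.1) (Pi.basisFun R _ p.2)) = ⊤ := by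
  by_contra hne
  obtain ⟨J, hJ, hle⟩ := Ideal.exists_le_maximal _ hne
  letI := Ideal.Quotient.field J
  have hn := odd_two_mul_add_one m
  have hU := OrthSmooth.isUnit_h Q (nondeg_odd m hQ) hn (R ⧸ J)
  set U := (OrthSmooth.matU Q).map (algebraMap R (R ⧸ J))
  have hP : U + Uᵀ = 0 := by
    ext i j
    have h1 : QuadraticMap.polar Q (Pi.basisFun R _ i) (Pi.basisFun R _ j) ∈ J :=
      hle (Ideal.subset_span ⟨(i, j), rfl⟩)
    rw [HalfDisc.polar_of_bilin Q (OrthSmooth.bilinLift_apply_self Q), ← Ideal.Quotient.eq_zero_iff_mem, map_add] at h1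
    simp only [U, OrthSmooth.matU, Matrix.add_apply, Matrix.transpose_apply, Matrix.map_apply,
      LinearMap.toMatrix₂_apply, Matrix.zero_apply]
    exact h1
  by_cases h2 : (2 : R ⧸ J) = 0
  · obtain ⟨-, v, hv⟩ := (HalfDisc.h_ne_zero_iff hn U).1 hU.ne_zero
    obtain ⟨c, hc⟩ := hv (Pi.single ⟨0, by omega⟩ 1) (by rw [hP, Matrix.zero_mulVec])
    obtain ⟨c', hc'⟩ := hv (Pi.single ⟨1, by omega⟩ 1) (by rw [hP, Matrix.zero_mulVec])
    have e0 := congrFun hc ⟨0, by omega⟩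
    have e1 := congrFun hc ⟨1, by omega⟩
    have e2 := congrFun hc' ⟨1, by omega⟩
    simp [Pi.single_apply] at e0 e1 e2
    rcases e1 with e1 | e1
    · rw [e1, zero_mul] at e0; exact one_ne_zero e0
    · rw [e1, mul_zero] at e2; exact one_ne_zero e2
  · have e := HalfDisc.two_mul_h hn U
    haveI : Nonempty (Fin (2 * m + 1)) := ⟨⟨0, by omega⟩⟩
    rw [hP, Matrix.det_zero] at e
    exact mul_ne_zero h2 hU.ne_zero e

include hQ in
theorem exists_half (hm : 1 ≤ m) :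
    ∃ h : CliffordAlgebra Q, h ∈ evenOdd Q 0 ∧ star h + h = 1 ∧
      ∀ v, h * ι Q v - ι Q v * h ∈ LinearMap.range (ι Q) := by
  obtain ⟨c, hc⟩ := Finsupp.mem_span_range_iff_exists_finsupp.1
    ((Ideal.eq_top_iff_one _).1 (polar_span_top m hQ hm))
  refine ⟨∑ p ∈ c.support, c p • (ι Q (Pi.basisFun R _ p.1) * ι Q (Pi.basisFun R _ p.2)),
    Submodule.sum_mem _ fun p _ => Submodule.smul_mem _ _ (ι_mul_ι_mem_evenOdd_zero _ _ _), ?_, fun v => ?_⟩
  · rw [star_sum, ← Finset.sum_add_distrib]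
    calc _ = ∑ p ∈ c.support, algebraMap R (CliffordAlgebra Q)
          (c p • QuadraticMap.polar Q (Pi.basisFun R _ p.1) (Pi.basisFun R _ p.2)) := by
          refine Finset.sum_congr rfl fun p _ => ?_
          rw [CliffordAlgebra.star_smul, star_mul, star_ι, star_ι, neg_mul_neg, ← smul_add,
            ι_mul_ι_add_swap, QuadraticMap.polar_comm, smul_eq_mul, map_mul, ← Algebra.smul_def]
      _ = 1 := by rw [← map_sum]; exact (congrArg _ hc).trans (map_one _)
  · rw [Finset.sum_mul, Finset.mul_sum, ← Finset.sum_sub_distrib]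
    refine Submodule.sum_mem _ fun p _ => ?_
    rw [smul_mul_assoc, mul_smul_comm, ← smul_sub]
    refine Submodule.smul_mem _ _ ?_
    generalize Pi.basisFun R _ p.1 = a
    generalize Pi.basisFun R _ p.2 = b
    have e : ι Q a * ι Q b * ι Q v - ι Q v * (ι Q a * ι Q b) =
        ι Q (QuadraticMap.polar Q b v • a - QuadraticMap.polar Q a v • b) := by
      have h1 : ι Q b * ι Q v = algebraMap R _ (QuadraticMap.polar Q b v) - ι Q v * ι Q b :=
        eq_sub_of_add_eq (ι_mul_ι_add_swap b v)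
      have h2 : ι Q v * ι Q a = algebraMap R _ (QuadraticMap.polar Q a v) - ι Q a * ι Q v :=
        eq_sub_of_add_eq ((add_comm _ _).trans (ι_mul_ι_add_swap a v))
      rw [mul_assoc, h1, mul_sub, ← mul_assoc (ι Q v), h2, sub_mul, mul_assoc (ι Q a) (ι Q v), map_sub, map_smul,
        map_smul, Algebra.smul_def, Algebra.smul_def, ← Algebra.commutes]
      abel
    rw [e]
    exact LinearMap.mem_range_self _ _

include hQ in
theorem pin_smooth_odd (hm : 1 ≤ m) (G : Over (Spec (CommRingCat.of R))) [GrpObj G] (D : QuadGrp.PinRep Q G) :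
    Smooth G.hom := by
  refine (smooth_of_lift (eqP Q) (fun A _ _ => QuadGrp.pin Q A) (eqP_natural Q) (mem_pin_iff Q) D ?_).1
  intro B _ _ I hI u hu
  obtain ⟨w, hw, hwu⟩ := lift_gpin_odd m hQ I hI u hu.1
  obtain ⟨hG, e, he, h0, h1⟩ := id hw
  set ν := star (w : CC Q B) * (w : CC Q B) with hν
  obtain ⟨g, -, hconj⟩ := Odd.exists_iso_of_GPin' (R := B) (M := B ⊗[R] (Fin (2 * m + 1) → R)) w hG
  have hconj' : ∀ v, (w : CC Q B) * ι (QA B Q) v = ι (QA B Q) (g v) * (w : CC Q B) :=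
    fun v => (Units.mul_inv_eq_iff_eq_mul w).1 (hconj v)
  have hνc : ∀ v, ι (QA B Q) v * ν = ν * ι (QA B Q) v := fun v => by
    have h2 := congrArg star (hconj' v)
    rw [star_mul, star_mul, star_ι, star_ι, neg_mul, mul_neg, neg_inj] at h2
    rw [hν, ← mul_assoc, h2, mul_assoc, ← hconj', ← mul_assoc]
  have hνe : ν ∈ evenOdd (QA B Q) 0 := by
    have : ν = star (e • (w : CC Q B)) * (e • (w : CC Q B)) +
        star ((1 - e) • (w : CC Q B)) * ((1 - e) • (w : CC Q B)) := by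
      rw [CliffordAlgebra.star_smul, CliffordAlgebra.star_smul, smul_mul_smul_comm, smul_mul_smul_comm, he.eq,
        he.one_sub.eq, ← add_smul, add_sub_cancel, one_smul]
    rw [this]
    exact add_mem (mul_mem_even_odd _ (by decide) (Odd.star_mem_evenOdd _ _ h0) h0)
      (mul_mem_even_odd _ (by decide) (Odd.star_mem_evenOdd _ _ h1) h1)
  obtain ⟨r, hr⟩ := Odd.even_scalar (R := B) (M := B ⊗[R] (Fin (2 * m + 1) → R)) (Rep.bA R (2 * m + 1) B)
    (semiregular_bA m hQ B) ν hνe hνc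
  have hτ : r - 1 ∈ I := by
    have h2 := congrArg (F Q (Ideal.Quotient.mkₐ R I)) hr
    rw [F_algebraMap, hν, map_mul, F_star, hwu, show star (u : CC Q (B ⧸ I)) * (u : CC Q (B ⧸ I)) = 1 from hu.2,
      ← map_one (algebraMap (B ⧸ I) (CC Q (B ⧸ I)))] at h2
    have h3 := Cliff.algebraMap_injective h2
    rwa [← map_one (Ideal.Quotient.mkₐ R I), Ideal.Quotient.mkₐ_eq_mk, Ideal.Quotient.eq] at h3
  set τ := r - 1
  have hττ : τ * τ = 0 := by
    have := Ideal.mul_mem_mul hτ hτ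
    rwa [← pow_two, hI, Ideal.mem_bot] at this
  obtain ⟨h', hhe, hhs, hhc⟩ := exists_half m hQ hm
  set h : CC Q B := toBC B Q h' with hh
  let k : (CC Q B)ˣ := ⟨1 - τ • h, 1 + τ • h,
    by rw [sub_mul, one_mul, mul_add, mul_one, smul_mul_smul_comm, hττ, zero_smul]; abel,
    by rw [add_mul, one_mul, mul_sub, mul_one, smul_mul_smul_comm, hττ, zero_smul]; abel⟩
  have hk1 : ∀ (a : B) (b : CC Q B), b ∈ LinearMap.range (ι (QA B Q)) → a • b ∈ LinearMap.range (ι (QA B Q)) :=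
    fun a b hb => Submodule.smul_mem _ a hb
  have hcomm : ∀ j, h * X Q B j - X Q B j * h ∈ LinearMap.range (ι (QA B Q)) := fun j => by
    obtain ⟨v, hv⟩ := hhc (Pi.basisFun R _ j)
    refine ⟨(1 : B) ⊗ₜ[R] v, ?_⟩
    rw [← toBC_ι, hv, map_sub, map_mul, map_mul]
    rfl
  have hkG : k ∈ QuadGrp.gpin Q B := by
    refine ⟨mem_GPin'_of_basis (Rep.bA R (2 * m + 1) B) k (fun j => ?_) (fun j => ?_), 1, IsIdempotentElem.one,
      ?_, by rw [sub_self, zero_smul]; exact Submodule.zero_mem _⟩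
    · rw [← X_eq]
      show (1 - τ • h) * X Q B j * (1 + τ • h) ∈ _
      rw [show (1 - τ • h) * X Q B j * (1 + τ • h) = X Q B j - τ • (h * X Q B j - X Q B j * h) by
        simp only [sub_mul, one_mul, mul_add, mul_one, smul_mul_assoc, mul_smul_comm, smul_smul, hττ, zero_smul,
          smul_sub]
        abel]
      exact sub_mem (X_mem Q B j) (hk1 _ _ (hcomm j))
    · rw [← X_eq]
      show (1 + τ • h) * X Q B j * (1 - τ • h) ∈ _
      rw [show (1 + τ • h) * X Q B j * (1 - τ • h) = X Q B j + τ • (h * X Q B j - X Q B j * h) by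
        simp only [add_mul, one_mul, mul_sub, mul_one, smul_mul_assoc, mul_smul_comm, smul_add, smul_sub, smul_smul,
          hττ, zero_smul]
        abel]
      exact add_mem (X_mem Q B j) (hk1 _ _ (hcomm j))
    · rw [one_smul]
      exact sub_mem (SetLike.one_mem_graded _) (Submodule.smul_mem _ _ (toBC_mem_evenOdd B Q 0 _ hhe))
  refine ⟨w * k, ⟨mul_mem hw hkG, ?_⟩, ?_⟩
  · show star ((w : CC Q B) * (1 - τ • h)) * ((w : CC Q B) * (1 - τ • h)) = 1
    rw [star_mul, mul_assoc, ← mul_assoc (star (w : CC Q B)), ← hν, ← hr, show r = 1 + τ by ring, map_add, map_one,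
      Algebra.algebraMap_eq_smul_one τ, star_sub, star_one, CliffordAlgebra.star_smul]
    have hs : star h + h = 1 := by rw [hh, ← Odd.toBC_star, ← map_add, hhs, map_one]
    simp only [sub_mul, mul_sub, add_mul, mul_add, one_mul, mul_one, smul_mul_assoc, mul_smul_comm, smul_smul,
      hττ, zero_smul, smul_sub, smul_add]
    rw [show star h = 1 - h from eq_sub_of_add_eq hs, smul_sub]
    simp only [mul_zero, zero_mul, zero_smul, smul_zero]
    abel
  · show F Q (Ideal.Quotient.mkₐ R I) ((w : CC Q B) * (1 - τ • h)) = _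
    rw [map_mul, hwu, map_sub, map_one, F_smul, Ideal.Quotient.mkₐ_eq_mk, Ideal.Quotient.eq_zero_iff_mem.2 hτ,
      zero_smul, sub_zero, mul_one]

end Odd

end Groth.Agent.Lib.QuadGrp99.Cliff.Group
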