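import Groth.Agent.Lib.QuadGrp99.Cliff.Group.Points
import Groth.Agent.Lib.QuadGrp99.OrthSmooth
import Mathlib.RingTheory.Localization.Ideal
import Mathlib.RingTheory.Localization.Integer

/-!
# Lifting points of the Clifford groups along square zero thickenings
-/

noncomputable section

open CliffordAlgebra TensorProduct
open scoped Matrix

universe u

namespace Groth.Agent.Lib.QuadGrp99.Cliff.Group

open Groth.Agent.Lib.QuadGrp99 Groth.Agent.Lib.QuadGrp99.Cliff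

theorem conj_P0 {S V : Type*} [CommRing S] [AddCommGroup V] [Module S V] {q : QuadraticForm S V}
    {x : CliffordAlgebra q} {a c : V} (h : x * ι q a = ι q c * x) : P0 q x * ι q a = ι q c * P0 q x := by
  refine sub_eq_zero.mp (parity_zero q
    (b := (x - P0 q x) * ι q a - ι q c * (x - P0 q x))
    (sub_mem (mul_mem_even_odd q (by decide) (P0_mem q x) (ι_mem_evenOdd_one q _))
      (mul_mem_even_odd q (by decide) (ι_mem_evenOdd_one q _) (P0_mem q x)))
    (sub_mem (mul_mem_even_odd q (by decide) (sub_P0_mem q x) (ι_mem_evenOdd_one q _))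
      (mul_mem_even_odd q (by decide) (ι_mem_evenOdd_one q _) (sub_P0_mem q x))) ?_)
  rw [sub_mul, mul_sub, h]
  abel

theorem exists_idempotent_lift {S : Type*} [CommRing S] {I : Ideal S} (hI : I ^ 2 = ⊥) (e : S ⧸ I)
    (he : IsIdempotentElem e) : ∃ e' : S, IsIdempotentElem e' ∧ Ideal.Quotient.mk I e' = e := by
  obtain ⟨a, rfl⟩ := Ideal.Quotient.mk_surjective e
  have hd : a * a - a ∈ I := Ideal.Quotient.eq_zero_iff_mem.1 (by rw [map_sub, map_mul, he.eq, sub_self])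
  have h0 : (a * a - a) * (a * a - a) = 0 := by
    have := Ideal.mul_mem_mul hd hd
    rwa [← pow_two, hI, Ideal.mem_bot] at this
  refine ⟨a - (2 * a - 1) * (a * a - a), ?_, ?_⟩
  · show _ * _ = _
    linear_combination ((2 * a - 1) ^ 2 - 4) * h0
  · rw [map_sub, map_mul, Ideal.Quotient.eq_zero_iff_mem.2 hd, mul_zero, sub_zero]

variable {R : Type u} [CommRing R] {n : ℕ} (Q : QuadraticForm R (Fin n → R))

/-- The images of the standard vectors under a matrix. -/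
def Gv {A : Type u} [CommRing A] [Algebra R A] (H : Matrix (Fin n) (Fin n) A) (j : Fin n) : CC Q A :=
  ∑ i, H i j • X Q A i

theorem F_Gv {A B : Type u} [CommRing A] [Algebra R A] [CommRing B] [Algebra R B] (φ : A →ₐ[R] B)
    (H : Matrix (Fin n) (Fin n) A) (j : Fin n) : F Q φ (Gv Q H j) = Gv Q (H.map φ) j := by
  simp only [Gv, map_sum, F_smul, F_X, Matrix.map_apply]

theorem Gv_mat {A : Type u} [CommRing A] [Algebra R A]
    (g : (A ⊗[R] (Fin n → R)) ≃ₗ[A] (A ⊗[R] (Fin n → R))) (j : Fin n) :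
    Gv Q (Rep.mat g) j = ι (QA A Q) (g (Rep.bA R n A j)) := by
  conv_rhs => rw [← (Rep.bA R n A).sum_repr (g (Rep.bA R n A j))]
  simp only [Gv, map_sum, map_smul, X_eq, Rep.mat, LinearMap.toMatrix_apply, LinearEquiv.coe_coe]

theorem commute_ι {A : Type u} [CommRing A] [Algebra R A] {x : CC Q A}
    (h : ∀ j, x * X Q A j = X Q A j * x) (v : A ⊗[R] (Fin n → R)) :
    ι (QA A Q) v * x = x * ι (QA A Q) v :=
  (eq_on_basis (Rep.bA R n A) (g := LinearMap.id) (fun j => by rw [LinearMap.id_apply, ← X_eq]; exact h j) v).symm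

theorem mem_O_QA_iff {A : Type u} [CommRing A] [Algebra R A]
    (g : (A ⊗[R] (Fin n → R)) ≃ₗ[A] (A ⊗[R] (Fin n → R))) :
    g ∈ QuadGrp.O (QA A Q) ↔ g ∈ QuadGrp.orth Q A :=
  ⟨fun h x => (AlgebraTensorModule.rid R A A).injective (h x),
    fun h x => congrArg (AlgebraTensorModule.rid R A A) (h x)⟩

variable {κ : Type*} (E : κ → MvPolynomial (Fin n × Fin n) R)

/-- Every solution is conjugation by a unit over a local ring. -/
def LocConj : Prop :=
  ∀ (A : Type u) [CommRing A] [Algebra R A] [IsLocalRing A] (H : Matrix (Fin n) (Fin n) A), Rep.IsSol E H →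
    ∃ u : (CC Q A)ˣ, ∀ j, (u : CC Q A) * X Q A j = Gv Q H j * (u : CC Q A)

/-- Central elements lift from quotients of local rings. -/
def CenterLift : Prop :=
  ∀ (A A' : Type u) [CommRing A] [Algebra R A] [IsLocalRing A] [CommRing A'] [Algebra R A'] (p : A →ₐ[R] A'),
    Function.Surjective p → ∀ x : CC Q A', (∀ j, x * X Q A' j = X Q A' j * x) →
      ∃ z : CC Q A, (∀ j, z * X Q A j = X Q A j * z) ∧ F Q p z = x

variable {Q E} {B : Type u} [CommRing B] [Algebra R B]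

theorem exists_kill_F (J : Ideal B) [J.IsPrime] (y : CC Q B)
    (h : F Q (IsScalarTower.toAlgHom R B (Localization.AtPrime J)) y = 0) : ∃ t ∉ J, t • y = 0 := by
  classical
  have h' := (F_eq_zero_iff _ y).1 h
  choose t ht using fun i => (IsLocalization.map_eq_zero_iff J.primeCompl (Localization.AtPrime J)
    ((bC Q B).repr y i)).1 (h' i)
  refine ⟨((∏ i, t i : J.primeCompl) : B), (∏ i, t i : J.primeCompl).2, (bC Q B).ext_elem fun i => ?_⟩
  rw [map_smul, map_zero, Finsupp.smul_apply, Finsupp.zero_apply, smul_eq_mul]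
  obtain ⟨c, hc⟩ := Finset.dvd_prod_of_mem t (Finset.mem_univ i)
  rw [hc, Submonoid.coe_mul, mul_comm ((t i : B)) _, mul_assoc, ht, mul_zero]

theorem exists_kill_quot (J : Ideal B) [J.IsPrime] (I : Ideal B) (y : CC Q B)
    (h : F Q ((Ideal.Quotient.mkₐ R (I.map (algebraMap B (Localization.AtPrime J)))).comp
      (IsScalarTower.toAlgHom R B (Localization.AtPrime J))) y = 0) :
    ∃ t ∉ J, F Q (Ideal.Quotient.mkₐ R I) (t • y) = 0 := by
  classical
  have h' := (F_eq_zero_iff _ y).1 h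
  choose t ht using fun i => ((IsLocalization.algebraMap_mem_map_algebraMap_iff J.primeCompl
    (Localization.AtPrime J) I _).1 (Ideal.Quotient.eq_zero_iff_mem.1 (h' i)))
  refine ⟨∏ i, t i, prod_mem (S := J.primeCompl) fun i _ => (ht i).1, (F_eq_zero_iff _ _).2 fun i => ?_⟩
  rw [map_smul, Finsupp.smul_apply, smul_eq_mul, Ideal.Quotient.mkₐ_eq_mk, Ideal.Quotient.eq_zero_iff_mem]
  obtain ⟨c, hc⟩ := Finset.dvd_prod_of_mem t (Finset.mem_univ i)
  rw [hc, mul_right_comm]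
  exact Ideal.mul_mem_right _ _ (ht i).2

variable (hloc : LocConj Q E) (hcen : CenterLift Q)

include hloc hcen in
theorem lift_conj_local (J : Ideal B) [J.IsPrime] (I : Ideal B) (H : Matrix (Fin n) (Fin n) B)
    (hH : Rep.IsSol E H) (u : (CC Q (B ⧸ I))ˣ)
    (hu : ∀ j, (u : CC Q (B ⧸ I)) * X Q (B ⧸ I) j =
      Gv Q (H.map (Ideal.Quotient.mkₐ R I)) j * (u : CC Q (B ⧸ I))) :
    ∃ r ∉ J, ∃ w : CC Q B, (∀ j, w * X Q B j = Gv Q H j * w) ∧
      F Q (Ideal.Quotient.mkₐ R I) w = Ideal.Quotient.mkₐ R I r • (u : CC Q (B ⧸ I)) := by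
  classical
  let q : B →ₐ[R] Localization.AtPrime J := IsScalarTower.toAlgHom R B (Localization.AtPrime J)
  let p' := Ideal.Quotient.mkₐ R (I.map (algebraMap B (Localization.AtPrime J)))
  let qb : (B ⧸ I) →ₐ[R] _ := Ideal.Quotient.liftₐ I (p'.comp q) fun a ha =>
    Ideal.Quotient.eq_zero_iff_mem.2 (Ideal.mem_map_of_mem _ ha)
  have hq : qb.comp (Ideal.Quotient.mkₐ R I) = p'.comp q := Ideal.Quotient.liftₐ_comp _ _ _
  obtain ⟨uP, huP⟩ := hloc _ (H.map q) (hH.map E q)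
  have hu' : ∀ j, F Q qb (u : CC Q (B ⧸ I)) * X Q _ j = Gv Q ((H.map q).map p') j * F Q qb (u : CC Q (B ⧸ I)) :=
    fun j => by
      have := congrArg (F Q qb) (hu j)
      rw [map_mul, map_mul, F_X, F_Gv, Matrix.map_map, ← AlgHom.coe_comp, hq] at this
      rwa [Matrix.map_map, ← AlgHom.coe_comp]
  let a := Units.map (F Q p').toMonoidHom uP
  have ha : ∀ j, (a : CC Q _) * X Q _ j = Gv Q ((H.map q).map p') j * (a : CC Q _) := fun j => by
    have := congrArg (F Q p') (huP j)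
    rwa [map_mul, map_mul, F_X, F_Gv] at this
  obtain ⟨z, hz, hzp⟩ := hcen _ _ p' (Ideal.Quotient.mkₐ_surjective R _)
    ((a⁻¹).val * F Q qb (u : CC Q (B ⧸ I))) fun j => by
      rw [mul_assoc, hu', ← mul_assoc, ← mul_assoc]
      congr 1
      refine a.isUnit.mul_left_cancel ?_
      rw [← mul_assoc, a.mul_inv, one_mul, ← mul_assoc, ha, mul_assoc, a.mul_inv, mul_one]
  set w' : CC Q (Localization.AtPrime J) := (uP : CC Q _) * z
  have hw'1 : ∀ j, w' * X Q _ j = Gv Q (H.map q) j * w' := fun j => by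
    rw [mul_assoc, hz, ← mul_assoc, huP, mul_assoc]
  have hw'2 : F Q p' w' = F Q qb (u : CC Q (B ⧸ I)) := by
    rw [map_mul, hzp, ← mul_assoc]
    show a.val * (a⁻¹).val * _ = _
    rw [a.mul_inv, one_mul]
  obtain ⟨⟨s, hs⟩, hint⟩ := IsLocalization.exist_integer_multiples_of_finite J.primeCompl
    fun i => (bC Q (Localization.AtPrime J)).repr w' i
  choose c hc using hint
  set w₁ : CC Q B := ∑ i, c i • bC Q B i
  have hw₁ : F Q q w₁ = q s • w' := (bC Q _).ext_elem fun i => by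
    rw [repr_F, Module.Basis.repr_sum_self, map_smul, Finsupp.smul_apply, smul_eq_mul]
    exact (hc i).trans (Algebra.smul_def _ _)
  choose t₁ ht₁ ht₁' using fun j => exists_kill_F J (w₁ * X Q B j - Gv Q H j * w₁) (by
    show F Q q _ = 0
    rw [map_sub, map_mul, map_mul, hw₁, F_X, F_Gv, smul_mul_assoc, mul_smul_comm, hw'1, sub_self])
  obtain ⟨u₀, hu₀⟩ := F_surjective (Ideal.Quotient.mkₐ R I) (Ideal.Quotient.mkₐ_surjective R I)
    (u : CC Q (B ⧸ I))
  obtain ⟨t₂, ht₂, ht₂'⟩ := exists_kill_quot J I (w₁ - s • u₀) (by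
    show F Q (p'.comp q) _ = 0
    rw [map_sub, F_smul, F_comp, hw₁, F_smul, hw'2, ← hq, F_comp (Ideal.Quotient.mkₐ R I), hu₀]
    rw [sub_eq_zero, ← AlgHom.comp_apply, hq, AlgHom.comp_apply])
  refine ⟨(∏ j, t₁ j) * t₂ * s, J.primeCompl.mul_mem (J.primeCompl.mul_mem
    (prod_mem (S := J.primeCompl) fun j _ => ht₁ j) ht₂) hs, ((∏ j, t₁ j) * t₂) • w₁, fun j => ?_, ?_⟩
  · obtain ⟨d, hd⟩ := Finset.dvd_prod_of_mem t₁ (Finset.mem_univ j)
    rw [← sub_eq_zero, smul_mul_assoc, mul_smul_comm, ← smul_sub, hd, mul_comm (t₁ j) d, mul_right_comm,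
      mul_smul, ht₁', smul_zero]
  · rw [F_smul, map_sub, smul_sub, sub_eq_zero, F_smul, hu₀] at ht₂'
    rw [mul_smul, F_smul, F_smul, ht₂', smul_smul, smul_smul, ← map_mul, ← map_mul]

include hloc hcen in
/-- Conjugating elements lift. -/
theorem lift_conj (I : Ideal B) (H : Matrix (Fin n) (Fin n) B)
    (hH : Rep.IsSol E H) (u : (CC Q (B ⧸ I))ˣ)
    (hu : ∀ j, (u : CC Q (B ⧸ I)) * X Q (B ⧸ I) j =
      Gv Q (H.map (Ideal.Quotient.mkₐ R I)) j * (u : CC Q (B ⧸ I))) :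
    ∃ w : CC Q B, (∀ j, w * X Q B j = Gv Q H j * w) ∧ F Q (Ideal.Quotient.mkₐ R I) w = u := by
  let N : Ideal B :=
    { carrier := {r | ∃ w : CC Q B, (∀ j, w * X Q B j = Gv Q H j * w) ∧
        F Q (Ideal.Quotient.mkₐ R I) w = Ideal.Quotient.mkₐ R I r • (u : CC Q (B ⧸ I))}
      add_mem' := by
        rintro r r' ⟨w, h1, h2⟩ ⟨w', h1', h2'⟩
        exact ⟨w + w', fun j => by rw [add_mul, mul_add, h1, h1'], by rw [map_add, h2, h2', map_add, add_smul]⟩
      zero_mem' := ⟨0, fun j => by simp, by simp⟩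
      smul_mem' := by
        rintro c r ⟨w, h1, h2⟩
        exact ⟨c • w, fun j => by rw [smul_mul_assoc, mul_smul_comm, h1],
          by rw [F_smul, h2, smul_smul, smul_eq_mul, map_mul]⟩ }
  have hN : N = ⊤ := by
    by_contra hne
    obtain ⟨J, hJ, hle⟩ := Ideal.exists_le_maximal N hne
    obtain ⟨r, hr, hr'⟩ := lift_conj_local hloc hcen J I H hH u hu
    exact hr (hle hr')
  obtain ⟨w, h1, h2⟩ := (Ideal.eq_top_iff_one N).1 hN
  exact ⟨w, h1, by rw [h2, map_one, one_smul]⟩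

variable [Finite κ] [Algebra.FormallySmooth R (Rep.coordRing E)]
  (hsol : ∀ (A : Type u) [CommRing A] [Algebra R A] (g : (A ⊗[R] (Fin n → R)) ≃ₗ[A] (A ⊗[R] (Fin n → R))),
    g ∈ QuadGrp.O (QA A Q) → ∀ u : (CC Q A)ˣ,
      (∀ v, (u : CC Q A) * ι (QA A Q) v = ι (QA A Q) (g v) * (u : CC Q A)) → Rep.IsSol E (Rep.mat g))
  (hiso : ∀ (A : Type u) [CommRing A] [Algebra R A] (H : Matrix (Fin n) (Fin n) A), Rep.IsSol E H →
    ∃ g : (A ⊗[R] (Fin n → R)) ≃ₗ[A] (A ⊗[R] (Fin n → R)), Rep.mat g = H)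

include hloc hcen hsol hiso in
omit [Finite κ] in
/-- Points of the Clifford group lift. -/
theorem lift_gpin (I : Ideal B) (hI : I ^ 2 = ⊥) (u : (CC Q (B ⧸ I))ˣ) (hu : u ∈ QuadGrp.gpin Q (B ⧸ I)) :
    ∃ w : (CC Q B)ˣ, w ∈ QuadGrp.gpin Q B ∧ F Q (Ideal.Quotient.mkₐ R I) (w : CC Q B) = u := by
  obtain ⟨hG, e, he, h0, h1⟩ := hu
  obtain ⟨g, hg, hconj⟩ := Odd.exists_iso_of_GPin' (R := B ⧸ I) (M := (B ⧸ I) ⊗[R] (Fin n → R)) u hG
  have hconj' : ∀ v, (u : CC Q (B ⧸ I)) * ι (QA (B ⧸ I) Q) v = ι (QA (B ⧸ I) Q) (g v) * (u : CC Q (B ⧸ I)) :=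
    fun v => (Units.mul_inv_eq_iff_eq_mul u).1 (hconj v)
  obtain ⟨H, hH, hHmap⟩ := Rep.exists_lift E (Ideal.Quotient.mkₐ R I) (Ideal.Quotient.mkₐ_surjective R I)
    ⟨2, by rw [Submodule.zero_eq_bot, show RingHom.ker (Ideal.Quotient.mkₐ R I) = I from Ideal.mk_ker, hI]⟩
    (Rep.mat g) (hsol _ g hg u hconj')
  obtain ⟨w, hw, hwu⟩ := lift_conj hloc hcen I H hH u fun j => by rw [hHmap, Gv_mat, X_eq]; exact hconj' _
  obtain ⟨e', he', hee⟩ := exists_idempotent_lift hI e he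
  obtain ⟨g', hg'⟩ := hiso B H hH
  have hGv : ∀ j, w * ι (QA B Q) (Rep.bA R n B j) = ι (QA B Q) (g' (Rep.bA R n B j)) * w := fun j => by
    rw [← Gv_mat, hg', ← X_eq]; exact hw j
  set y := e' • P0 (QA B Q) w + (1 - e') • (w - P0 (QA B Q) w) with hy
  have hyu : F Q (Ideal.Quotient.mkₐ R I) y = u := by
    rw [hy, map_add, F_smul, F_smul, map_sub, map_sub, map_one, F_P0, hwu, P0_eq_smul h0 h1,
      Ideal.Quotient.mkₐ_eq_mk, hee, smul_sub, smul_smul, smul_smul, he.eq, sub_mul, one_mul, he.eq, sub_self,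
      zero_smul, sub_zero, ← add_smul, add_sub_cancel, one_smul]
  obtain ⟨y', hy'⟩ := isUnit_of_F (Ideal.Quotient.mkₐ R I) (Ideal.Quotient.mkₐ_surjective R I)
    (fun a b ha hb => by
      have := Ideal.mul_mem_mul (Ideal.Quotient.eq_zero_iff_mem.1 ha) (Ideal.Quotient.eq_zero_iff_mem.1 hb)
      rwa [← pow_two, hI, Ideal.mem_bot] at this) y (hyu ▸ u.isUnit)
  refine ⟨y', ⟨?_, e', he', ?_, ?_⟩, hy' ▸ hyu⟩
  · refine mem_GPin'_of_conj (R := B) (M := B ⊗[R] (Fin n → R)) g' y' fun v =>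
      (Units.mul_inv_eq_iff_eq_mul y').2 (eq_on_basis (Rep.bA R n B) (g := g'.toLinearMap) (fun j => ?_) v)
    rw [hy', hy, add_mul, mul_add, smul_mul_assoc, smul_mul_assoc, mul_smul_comm, mul_smul_comm, sub_mul, mul_sub,
      conj_P0 (hGv j), hGv j]
    rfl
  · rw [hy', hy, smul_add, smul_smul, smul_smul, he'.eq, mul_sub, mul_one, he'.eq, sub_self, zero_smul, add_zero]
    exact Submodule.smul_mem _ _ (P0_mem _ _)
  · rw [hy', hy, smul_add, smul_smul, smul_smul, sub_mul, one_mul, he'.eq, sub_self, zero_smul, zero_add]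
    exact Submodule.smul_mem _ _ (sub_P0_mem _ _)

end Groth.Agent.Lib.QuadGrp99.Cliff.Group
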