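import Groth.Agent.Lib.QuadGrp99.Cliff.Group.Scheme

/-!
# Equations for the Clifford and Pin groups
-/

noncomputable section

open CliffordAlgebra TensorProduct
open scoped Pointwise

universe u

namespace Groth.Agent.Lib.QuadGrp99.Cliff.Group

open Groth.Agent.Lib.QuadGrp99.Cliff

section Generic

variable {S V : Type*} [CommRing S] [AddCommGroup V] [Module S V] {q : QuadraticForm S V}

theorem eq_on_basis {ι' : Type*} (b : Module.Basis ι' S V) {x y : CliffordAlgebra q} {g : V →ₗ[S] V}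
    (h : ∀ j, x * ι q (b j) = ι q (g (b j)) * y) (v : V) : x * ι q v = ι q (g v) * y :=
  LinearMap.congr_fun (b.ext h : (LinearMap.mulLeft S x).comp (ι q) =
    ((LinearMap.mulRight S y).comp (ι q)).comp g) v

theorem mem_GPin'_of_basis {ι' : Type*} (b : Module.Basis ι' S V) (u : (CliffordAlgebra q)ˣ)
    (h1 : ∀ j, (u : CliffordAlgebra q) * ι q (b j) * ↑u⁻¹ ∈ LinearMap.range (ι q))
    (h2 : ∀ j, (↑u⁻¹ : CliffordAlgebra q) * ι q (b j) * u ∈ LinearMap.range (ι q)) : u ∈ QuadGrp.GPin' q := by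
  have key : ∀ w : (CliffordAlgebra q)ˣ,
      (∀ j, (w : CliffordAlgebra q) * ι q (b j) * ↑w⁻¹ ∈ LinearMap.range (ι q)) →
      ∀ v, (w : CliffordAlgebra q) * ι q v * ↑w⁻¹ ∈ LinearMap.range (ι q) := fun w hw v => by
    induction b.mem_span v using Submodule.span_induction with
    | zero => simp
    | add a c _ _ ha hc => rw [map_add, mul_add, add_mul]; exact add_mem ha hc
    | smul r a _ ha => rw [map_smul, mul_smul_comm, smul_mul_assoc]; exact Submodule.smul_mem _ _ ha
    | mem a ha => obtain ⟨j, rfl⟩ := ha; exact hw j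
  rw [QuadGrp.mem_GPin']
  refine le_antisymm ?_ ?_
  · rintro _ ⟨_, ⟨v, rfl⟩, rfl⟩
    exact key u h1 v
  · rintro _ ⟨v, rfl⟩
    refine ⟨(↑u⁻¹ : CliffordAlgebra q) * ι q v * u, by simpa using key u⁻¹ (by simpa using h2) v, ?_⟩
    show (u : CliffordAlgebra q) * _ * ↑u⁻¹ = _
    rw [← mul_assoc, ← mul_assoc, u.mul_inv, one_mul, mul_assoc, u.mul_inv, mul_one]

theorem P0_eq_smul {x : CliffordAlgebra q} {e : S} (h0 : e • x ∈ evenOdd q 0) (h1 : (1 - e) • x ∈ evenOdd q 1) :
    P0 q x = e • x := by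
  conv_lhs => rw [show x = e • x + (1 - e) • x by rw [← add_smul, add_sub_cancel, one_smul]]
  rw [map_add, P0_even q h0, P0_odd q h1, add_zero]

end Generic

variable {R : Type u} [CommRing R] {n : ℕ} (Q : QuadraticForm R (Fin n → R))

/-- The standard vectors. -/
def X (A : Type u) [CommRing A] [Algebra R A] (j : Fin n) : CC Q A := toBC A Q (ι Q (Pi.basisFun R (Fin n) j))

theorem X_eq (A : Type u) [CommRing A] [Algebra R A] (j : Fin n) :
    X Q A j = ι (QA A Q) ((Pi.basisFun R (Fin n)).baseChange A j) := by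
  rw [X, toBC_ι, Module.Basis.baseChange_apply]

theorem X_mem (A : Type u) [CommRing A] [Algebra R A] (j : Fin n) : X Q A j ∈ LinearMap.range (ι (QA A Q)) :=
  ⟨_, (X_eq Q A j).symm⟩

theorem F_X {A B : Type u} [CommRing A] [Algebra R A] [CommRing B] [Algebra R B] (φ : A →ₐ[R] B) (j : Fin n) :
    F Q φ (X Q A j) = X Q B j := F_toBC φ _

/-- The scalar witness of local homogeneity. -/
def W {A : Type u} [CommRing A] [Algebra R A] (u v : CC Q A) : CC Q A := P0 (QA A Q) u * v

/-- The equations of the Clifford group. -/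
def eqG : Option (Option (ULift.{u} (Fin n × Bool))) → ∀ (A : Type u) [CommRing A] [Algebra R A],
    CC Q A → CC Q A → CC Q A
  | none => fun _ _ _ u v => W Q u v * W Q u v - W Q u v
  | some none => fun A _ _ u v => W Q u v - algebraMap A (CC Q A) (phiA Q A (W Q u v))
  | some (some ⟨j, true⟩) => fun A _ _ u v => Pr Q A (u * X Q A j * v)
  | some (some ⟨j, false⟩) => fun A _ _ u v => Pr Q A (v * X Q A j * u)

/-- The equations of the Pin group. -/
def eqP : Option (Option (Option (ULift.{u} (Fin n × Bool)))) → ∀ (A : Type u) [CommRing A] [Algebra R A],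
    CC Q A → CC Q A → CC Q A
  | none => fun _ _ _ u _ => star u * u - 1
  | some k => fun A _ _ u v => eqG Q k A u v

theorem eqG_natural (k : Option (Option (ULift.{u} (Fin n × Bool)))) (A B : Type u) [CommRing A] [Algebra R A]
    [CommRing B] [Algebra R B] (φ : A →ₐ[R] B) (u v : CC Q A) :
    F Q φ (eqG Q k A u v) = eqG Q k B (F Q φ u) (F Q φ v) := by
  rcases k with _ | _ | ⟨j, _ | _⟩ <;>
    simp only [eqG, W, map_sub, map_mul, F_P0, F_algebraMap, ← phiA_F, F_Pr, F_X]

theorem eqP_natural (k : Option (Option (Option (ULift.{u} (Fin n × Bool))))) (A B : Type u) [CommRing A]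
    [Algebra R A] [CommRing B] [Algebra R B] (φ : A →ₐ[R] B) (u v : CC Q A) :
    F Q φ (eqP Q k A u v) = eqP Q k B (F Q φ u) (F Q φ v) := by
  cases k with
  | none => simp only [eqP, map_sub, map_mul, map_one, F_star]
  | some k => exact eqG_natural Q k A B φ u v

theorem mem_gpin_iff (A : Type u) [CommRing A] [Algebra R A] (u : (CC Q A)ˣ) :
    u ∈ QuadGrp.gpin Q A ↔ ∀ k, eqG Q k A (u : CC Q A) (↑u⁻¹ : CC Q A) = 0 := by
  constructor
  · rintro ⟨hG, e, he, h0, h1⟩
    have hW : W Q (u : CC Q A) (↑u⁻¹ : CC Q A) = algebraMap A _ e := by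
      rw [W, P0_eq_smul h0 h1, smul_mul_assoc, u.mul_inv, Algebra.algebraMap_eq_smul_one]
    have hmove : ∀ w : (CC Q A)ˣ, w ∈ QuadGrp.GPin' (QA A Q) → ∀ j,
        (w : CC Q A) * X Q A j * (↑w⁻¹ : CC Q A) ∈ LinearMap.range (ι (QA A Q)) := fun w hw j => by
      obtain ⟨g, -, hg⟩ := Odd.exists_iso_of_GPin' (R := A) (M := A ⊗[R] (Fin n → R)) w hw
      exact ⟨_, by rw [X_eq, hg]⟩
    rintro (_ | _ | ⟨j, _ | _⟩)
    · simp only [eqG, hW]
      rw [← map_mul, show e * e = e from he, sub_self]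
    · simp only [eqG, hW, phiA_algebraMap, sub_self]
    · simp only [eqG, Pr_eq_zero_iff]
      simpa using hmove u⁻¹ (inv_mem hG) j
    · simp only [eqG, Pr_eq_zero_iff]
      exact hmove u hG j
  · intro h
    refine ⟨?_, phiA Q A (W Q (u : CC Q A) (↑u⁻¹ : CC Q A)), ?_, ?_⟩
    · refine mem_GPin'_of_basis ((Pi.basisFun R (Fin n)).baseChange A) u (fun j => ?_) fun j => ?_
      · rw [← X_eq, ← Pr_eq_zero_iff]; exact h (some (some ⟨j, true⟩))
      · rw [← X_eq, ← Pr_eq_zero_iff]; exact h (some (some ⟨j, false⟩))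
    all_goals
      have hW := sub_eq_zero.1 (h (some none))
      set e := phiA Q A (W Q (u : CC Q A) (↑u⁻¹ : CC Q A))
    · have h2 := sub_eq_zero.1 (h none)
      rw [hW, ← map_mul] at h2
      exact Cliff.algebraMap_injective h2
    · have hu : P0 (QA A Q) (u : CC Q A) = e • (u : CC Q A) := by
        rw [Algebra.smul_def, ← hW, W, mul_assoc, u.inv_mul, mul_one]
      exact ⟨hu ▸ P0_mem _ _, by rw [sub_smul, one_smul, ← hu]; exact sub_P0_mem _ _⟩

theorem mem_pin_iff (A : Type u) [CommRing A] [Algebra R A] (u : (CC Q A)ˣ) :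
    u ∈ QuadGrp.pin Q A ↔ ∀ k, eqP Q k A (u : CC Q A) (↑u⁻¹ : CC Q A) = 0 := by
  rw [show u ∈ QuadGrp.pin Q A ↔ u ∈ QuadGrp.gpin Q A ∧ star (u : CC Q A) * u = 1 from Iff.rfl, mem_gpin_iff]
  refine ⟨fun h k => ?_, fun h => ⟨fun k => h (some k), sub_eq_zero.1 (h none)⟩⟩
  cases k with
  | none => exact sub_eq_zero.2 h.2
  | some k => exact h.1 k

end Groth.Agent.Lib.QuadGrp99.Cliff.Group
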