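import Groth.Agent.Lib.QuadGrp99.Cliff.Group.Funct
import Groth.Agent.Lib.GrassRep.AffinePoints
import Groth.Prelude.Def_QuadGrp2
import Mathlib.AlgebraicGeometry.Morphisms.Smooth
import Mathlib.RingTheory.Smooth.Basic

/-!
# Group schemes cut out of the units of Clifford algebras by equations
-/

noncomputable section

universe u

open CategoryTheory AlgebraicGeometry MonObj
open scoped TensorProduct

namespace Groth.Agent.Lib.QuadGrp99.Cliff.Group

open Groth.Agent.Lib.QuadGrp99.Cliff

variable {R : Type u} [CommRing R] {M : Type u} [AddCommGroup M] [Module R M] [Module.Free R M]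
  [Module.Finite R M] (Q : QuadraticForm R M) {κ : Type u}
  (E : κ → ∀ (A : Type u) [CommRing A] [Algebra R A], CC Q A → CC Q A → CC Q A)

/-- The equations, with those of the inverse. -/
def fullEq : Bool ⊕ κ → ∀ (A : Type u) [CommRing A] [Algebra R A], CC Q A → CC Q A → CC Q A
  | .inl true, _, _, _, u, v => u * v - 1
  | .inl false, _, _, _, u, v => v * u - 1
  | .inr k, A, _, _, u, v => E k A u v

/-- The polynomial ring of pairs of elements. -/
abbrev coords : Type u := MvPolynomial (Bool × Idx Q) R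

/-- The generic elements. -/
def genE (s : Bool) : CC Q (coords Q) := ∑ i, (MvPolynomial.X (s, i) : coords Q) • bC Q (coords Q) i

/-- The ideal of the equations. -/
abbrev relI : Ideal (coords Q) := Ideal.span (Set.range fun p : (Bool ⊕ κ) × Idx Q =>
  (bC Q (coords Q)).repr (fullEq Q E p.1 (coords Q) (genE Q true) (genE Q false)) p.2)

/-- The coordinate ring. -/
abbrev cring : Type u := coords Q ⧸ relI Q E

/-- A pair of elements as a point. -/
def evC {A : Type u} [CommRing A] [Algebra R A] (u v : CC Q A) : coords Q →ₐ[R] A :=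
  MvPolynomial.aeval fun p => (bC Q A).repr (if p.1 then u else v) p.2

theorem F_genE {A : Type u} [CommRing A] [Algebra R A] (φ : coords Q →ₐ[R] A) (s : Bool) :
    F Q φ (genE Q s) = ∑ i, φ (MvPolynomial.X (s, i)) • bC Q A i := by
  rw [genE, map_sum]
  exact Finset.sum_congr rfl fun i _ => by rw [F_smul, F_bC]

theorem F_evC {A : Type u} [CommRing A] [Algebra R A] (u v : CC Q A) (s : Bool) :
    F Q (evC Q u v) (genE Q s) = if s then u else v := by
  rw [F_genE]
  cases s <;>
    · simp only [evC, MvPolynomial.aeval_X, if_true, Bool.false_eq_true, if_false]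
      exact (bC Q A).sum_repr _

variable (T : ∀ (A : Type u) [CommRing A] [Algebra R A], Subgroup (CC Q A)ˣ)
  (hE : ∀ (k : κ) (A B : Type u) [CommRing A] [Algebra R A] [CommRing B] [Algebra R B] (φ : A →ₐ[R] B)
    (u v : CC Q A), F Q φ (E k A u v) = E k B (F Q φ u) (F Q φ v))
  (hT : ∀ (A : Type u) [CommRing A] [Algebra R A] (u : (CC Q A)ˣ),
    u ∈ T A ↔ ∀ k, E k A (u : CC Q A) (↑u⁻¹ : CC Q A) = 0)

include hE in
theorem fullEq_natural (k : Bool ⊕ κ) {A B : Type u} [CommRing A] [Algebra R A] [CommRing B] [Algebra R B]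
    (φ : A →ₐ[R] B) (u v : CC Q A) :
    F Q φ (fullEq Q E k A u v) = fullEq Q E k B (F Q φ u) (F Q φ v) := by
  rcases k with (_ | _) | k
  · simp [fullEq]
  · simp [fullEq]
  · exact hE k A B φ u v

include hE in
theorem fullEq_of_point {A : Type u} [CommRing A] [Algebra R A] (f : cring Q E →ₐ[R] A) (k : Bool ⊕ κ) :
    fullEq Q E k A (F Q (f.comp (Ideal.Quotient.mkₐ R _)) (genE Q true))
      (F Q (f.comp (Ideal.Quotient.mkₐ R _)) (genE Q false)) = 0 := by
  rw [← fullEq_natural Q E hE, F_eq_zero_iff]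
  intro i
  have hm : (bC Q (coords Q)).repr (fullEq Q E k (coords Q) (genE Q true) (genE Q false)) i ∈ relI Q E :=
    Ideal.subset_span ⟨(k, i), rfl⟩
  rw [AlgHom.comp_apply, Ideal.Quotient.mkₐ_eq_mk, Ideal.Quotient.eq_zero_iff_mem.2 hm, map_zero]

include hE hT in
/-- Points of the coordinate ring. -/
theorem exists_ptsEquiv (A : Type u) [CommRing A] [Algebra R A] :
    ∃ e : (cring Q E →ₐ[R] A) ≃ ↥(T A), ∀ f, ((e f : (CC Q A)ˣ) : CC Q A) =
      F Q (f.comp (Ideal.Quotient.mkₐ R _)) (genE Q true) := by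
  let un : (cring Q E →ₐ[R] A) → (CC Q A)ˣ := fun f =>
    ⟨F Q (f.comp (Ideal.Quotient.mkₐ R _)) (genE Q true), F Q (f.comp (Ideal.Quotient.mkₐ R _)) (genE Q false),
      sub_eq_zero.1 (fullEq_of_point Q E hE f (.inl true)), sub_eq_zero.1 (fullEq_of_point Q E hE f (.inl false))⟩
  have hmem : ∀ f, un f ∈ T A := fun f => (hT A _).2 fun k => fullEq_of_point Q E hE f (.inr k)
  refine ⟨Equiv.ofBijective (fun f => ⟨un f, hmem f⟩) ⟨fun f g hfg => ?_, fun w => ?_⟩, fun f => rfl⟩
  · have h1 : un f = un g := congrArg Subtype.val hfg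
    refine Ideal.Quotient.algHom_ext R (MvPolynomial.algHom_ext fun p => ?_)
    obtain ⟨s, i⟩ := p
    have key : F Q (f.comp (Ideal.Quotient.mkₐ R _)) (genE Q s) = F Q (g.comp (Ideal.Quotient.mkₐ R _)) (genE Q s) := by
      cases s
      · exact congrArg (fun z : (CC Q A)ˣ => (↑z⁻¹ : CC Q A)) h1
      · exact congrArg Units.val h1
    have := congrArg (fun z => (bC Q A).repr z i) key
    simpa only [F_genE, Module.Basis.repr_sum_self] using this
  · have hk : ∀ x ∈ relI Q E, evC Q (w.1 : CC Q A) (↑w.1⁻¹ : CC Q A) x = 0 := by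
      refine fun x hx => (Ideal.span_le.2 ?_ : relI Q E ≤ RingHom.ker (evC Q (w.1 : CC Q A) (↑w.1⁻¹ : CC Q A))) hx
      rintro _ ⟨⟨k, i⟩, rfl⟩
      show evC Q (w.1 : CC Q A) (↑w.1⁻¹ : CC Q A) _ = 0
      have : fullEq Q E k A (w.1 : CC Q A) (↑w.1⁻¹ : CC Q A) = 0 := by
        rcases k with (_ | _) | k
        · simp [fullEq]
        · simp [fullEq]
        · exact (hT A _).1 w.2 k
      rw [← repr_F, fullEq_natural Q E hE, F_evC, F_evC, if_pos rfl, if_neg Bool.false_ne_true, this]
      simp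
    refine ⟨Ideal.Quotient.liftₐ _ _ hk, Subtype.ext (Units.ext ?_)⟩
    show F Q ((Ideal.Quotient.liftₐ _ _ hk).comp (Ideal.Quotient.mkₐ R _)) (genE Q true) = _
    rw [show (Ideal.Quotient.liftₐ _ _ hk).comp (Ideal.Quotient.mkₐ R _) =
      evC Q (w.1 : CC Q A) (↑w.1⁻¹ : CC Q A) from Ideal.Quotient.liftₐ_comp _ _ _, F_evC, if_pos rfl]

theorem finitePresentation [Finite κ] : Algebra.FinitePresentation R (cring Q E) :=
  Algebra.FinitePresentation.quotient (Submodule.fg_span (Set.finite_range _))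

variable {Q}
variable {G : Over (Spec (CommRingCat.of R))} [GrpObj G] (D : QuadGrp.CliffRep Q T G)

include hE hT D in
theorem exists_iso : Nonempty (G ≅ GrassRep.pt R (cring Q E)) := by
  choose e he using exists_ptsEquiv Q E T hE hT
  have hal : ∀ (A : Type u) [CommRing A] [Algebra R A] (g : GrassRep.pt R A ⟶ GrassRep.pt R (cring Q E)),
      ∃ f : cring Q E →ₐ[R] A, GrassRep.Sp f = g.left := fun A _ _ g =>
    GrassRep.exists_algHom g.left (Over.w g)
  choose al hal using hal
  have hinj : ∀ (A : Type u) [CommRing A] [Algebra R A] (f f' : cring Q E →ₐ[R] A),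
      GrassRep.Sp f = GrassRep.Sp f' → f = f' := fun A _ _ f f' hff =>
    AlgHom.ext fun x => congrArg (fun k => k.hom x) (Spec.map_injective hff)
  let α : ∀ (A : Type u) [CommRing A] [Algebra R A],
      (GrassRep.pt R A ⟶ GrassRep.pt R (cring Q E)) ≃ (cring Q E →ₐ[R] A) := fun A _ _ =>
    { toFun := al A
      invFun := fun f => Over.homMk (GrassRep.Sp f) (GrassRep.Sp_str f)
      left_inv := fun g => Over.OverMorphism.ext (hal A g)
      right_inv := fun f => hinj A _ _ (hal A _) }
  let θ : ∀ (A : Type u) [CommRing A] [Algebra R A],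
      (GrassRep.pt R A ⟶ GrassRep.pt R (cring Q E)) ≃ (GrassRep.pt R A ⟶ G) := fun A _ _ =>
    ((α A).trans (e A)).trans (D.pts A).symm.toEquiv
  obtain ⟨Φ, -⟩ := GrassRep.exists_iso θ (by
    intro A B _ _ _ _ φ g g' hg'
    have hf : al B g' = φ.comp (al A g) := hinj B _ _ (by rw [hal, hg', GrassRep.Sp_comp, hal])
    show (θ B g').left = (QuadGrp.specOverMap R φ ≫ θ A g).left
    refine congrArg CommaMorphism.left ((D.pts B).injective (Subtype.ext (Units.ext ?_)))
    have e1 : (D.pts B) (θ B g') = e B (al B g') := (D.pts B).apply_symm_apply _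
    have e2 : (D.pts A) (θ A g) = e A (al A g) := (D.pts A).apply_symm_apply _
    rw [D.natural A B φ (F Q φ) (F_ι φ) (F_algebraMap φ) (θ A g), e1, e2, he, he, hf, AlgHom.comp_assoc,
      F_comp])
  exact ⟨Φ.symm⟩

include hE hT D in
theorem smooth_of_lift [Finite κ]
    (hlift : ∀ (B : Type u) [CommRing B] [Algebra R B] (I : Ideal B), I ^ 2 = ⊥ →
      ∀ u : (CC Q (B ⧸ I))ˣ, u ∈ T (B ⧸ I) →
        ∃ w : (CC Q B)ˣ, w ∈ T B ∧ F Q (Ideal.Quotient.mkₐ R I) (w : CC Q B) = u) :
    Smooth G.hom ∧ IsAffineHom G.hom := by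
  choose e he using exists_ptsEquiv Q E T hE hT
  have hfs : Algebra.FormallySmooth R (cring Q E) := by
    rw [Algebra.FormallySmooth.iff_comp_surjective]
    intro B _ _ I hI f
    obtain ⟨w, hw, hwu⟩ := hlift B I hI _ (e _ f).2
    refine ⟨(e B).symm ⟨w, hw⟩, (e _).injective (Subtype.ext (Units.ext ?_))⟩
    rw [he, AlgHom.comp_assoc, F_comp, ← he, Equiv.apply_symm_apply]
    exact hwu
  obtain ⟨Φ⟩ := exists_iso E T hE hT D
  have hiso : IsIso Φ.hom.left := inferInstanceAs (IsIso ((Over.forget _).map Φ.hom))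
  have hsm : Smooth (Spec.map (CommRingCat.ofHom (algebraMap R (cring Q E)))) := by
    rw [HasRingHomProperty.Spec_iff (P := @Smooth)]
    show (algebraMap R (cring Q E)).Smooth
    rw [RingHom.smooth_algebraMap]
    exact ⟨hfs, finitePresentation Q E⟩
  rw [← Over.w Φ.hom]
  exact ⟨(MorphismProperty.cancel_left_of_respectsIso @Smooth Φ.hom.left _).2 hsm,
    (MorphismProperty.cancel_left_of_respectsIso @IsAffineHom Φ.hom.left _).2 (inferInstanceAs (IsAffineHom
      (Spec.map (CommRingCat.ofHom (algebraMap R (cring Q E))))))⟩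

end Groth.Agent.Lib.QuadGrp99.Cliff.Group
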